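import Cfsg.Agent.P3.Pl2
import Cfsg.Agent.H10.No22

/-! Borel type with `q = 2`, `k = 2` is impossible. -/

set_option autoImplicit false
set_option linter.all false

open scoped Pointwise

namespace Cfsg.Agent.P3

open Subgroup MulAction

variable {G Ω : Type*} [Group G] [Finite G] [Finite Ω] [MulAction G Ω]

theorem Fam.ct_bot {q : ℕ} {N : Ω → Subgroup G} {PL : Ω → Subgroup G → Prop} (F : Fam G Ω q N)
    (R : GP N q PL) (hk : ∀ a b : Ω, a ≠ b → (ln N q a b).ncard = 2) (a : Ω) {c : G} (hc : c ∈ Ct N a) :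
    c = 1 := by
  refine F.faith c fun d => ?_
  by_cases hda : d = a
  · rw [hda]; exact F.ct_le hc
  have had := Ne.symm hda
  obtain ⟨V, hV, hVd⟩ := F.exists_fl had
  have h1 : cj c V = V := cj_of_comm fun x hx => Fam.ct_comm hc (hV.le hx)
  have h2 : V ≤ stabilizer G (c • d) := by
    have := cj_le_stab (g := c) hVd
    rwa [h1] at this
  have h3 : c • d ∈ ln N q a d := (R.mem_ln had hV hVd).2 h2
  have h4 : ({a, d} : Set Ω) = ln N q a d := by
    refine Set.eq_of_subset_of_ncard_le ?_ (by rw [hk a d had, Set.ncard_pair had]) (Set.toFinite _)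
    rintro x (rfl | rfl)
    · exact ln_left F _ _
    · exact ln_right _ _
  rw [← h4] at h3
  rcases h3 with h3 | h3
  · exfalso
    exact hda (smul_left_cancel c (h3.trans (F.ct_le hc).symm))
  · exact h3

theorem bt_two {N : Ω → Subgroup G} (F : Fam G Ω 2 N) (hBT : ∀ a b : Ω, a ≠ b → BT N 2 a b)
    (hk : ∀ a b : Ω, a ≠ b → (ln N 2 a b).ncard = 2) (h22 : Nat.card Ω = 22) : False := by
  classical
  have R := F.gp_BT hBT
  obtain ⟨a⟩ := F.ne
  obtain ⟨b, hb⟩ := F.exists_ne a
  have hab := Ne.symm hb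
  obtain ⟨P, L, h⟩ := F.ps a
  obtain ⟨U, hU, hUb⟩ := F.exists_fl hab
  obtain ⟨A, hA, B, hB, hAB, hUeq⟩ := h.fl hU
  have hUa : U ≤ stabilizer G a := fun x hx => F.le a x (hU.le hx)
  let W : Subgroup G :=
    { carrier := {g | g • a = a ∧ g • b = b ∧ cj g A = A ∧ cj g B = B}
      one_mem' := ⟨one_smul G a, one_smul G b, cj_one A, cj_one B⟩
      mul_mem' := by
        rintro x y ⟨h1, h2, h3, h4⟩ ⟨h1', h2', h3', h4'⟩
        refine ⟨?_, ?_, ?_, ?_⟩
        · rw [mul_smul, h1', h1]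
        · rw [mul_smul, h2', h2]
        · rw [cj_mul, h3', h3]
        · rw [cj_mul, h4', h4]
      inv_mem' := by
        rintro x ⟨h1, h2, h3, h4⟩
        exact ⟨by rw [inv_smul_eq_iff, h1], by rw [inv_smul_eq_iff, h2], cj_inv_eq h3, cj_inv_eq h4⟩ }
  have hUW : U ≤ W := by
    intro x hx
    have h1 := hx
    rw [hUeq] at h1
    exact ⟨hUa hx, hUb hx, (h.U_norm hA hB hAB h1).1, (h.U_norm hA hB hAB h1).2⟩
  have hWU : W ≤ U := by
    rintro g ⟨hga, hgb, hgA, hgB⟩
    obtain ⟨hP, hL⟩ := h.pres (F.Nz hga) hA (by rw [hgA]; exact hA)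
    have incA : ∀ g : G, cj g A = A → ∀ B', A ⊓ B' ≠ ⊥ → A ⊓ cj g B' ≠ ⊥ := by
      intro g hgA B' h1
      have : A ⊓ cj g B' = cj g (A ⊓ B') := by rw [cj_inf, hgA]
      rw [this]; exact fun h2 => h1 (cj_eq_bot.1 h2)
    obtain ⟨B₁, hB₁, hB₁A, hne, -⟩ := h.symm.third hA B B
    have hAB₁ := inf_ne hB₁A
    obtain ⟨y, hy, h1⟩ := h.trans_lines hA hB hAB (hL B₁ hB₁) (incA g hgA B₁ hAB₁)
      (fun e => hne (cj_inj (e.trans hgB.symm))) hB₁ hAB₁ hne
    have hyN := h.h2.le B hB hy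
    have hyU : y ∈ U := by rw [hUeq]; exact mem_sup_right hy
    have hg'A : cj (y * g) A = A := by
      rw [cj_mul, hgA]; exact h.h2.norm B hB A hA (inf_ne hAB) y hy
    have hg'B : cj (y * g) B = B := by rw [cj_mul, hgB, cj_self hy]
    have hg'B₁ : cj (y * g) B₁ = B₁ := by rw [cj_mul, h1]
    have hg'L : ∀ B' ∈ L, cj (y * g) B' ∈ L := by
      intro B' hB'
      rw [cj_mul]; exact h.h2.conj y hyN _ (hL B' hB')
    have hall : ∀ B' ∈ L, A ⊓ B' ≠ ⊥ → cj (y * g) B' = B' := by
      intro B' hB' hAB'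
      by_cases h2 : B' = B
      · rw [h2]; exact hg'B
      by_cases h3 : B' = B₁
      · rw [h3]; exact hg'B₁
      by_contra h4
      have hsub : ({B, B₁, B', cj (y * g) B'} : Set (Subgroup G)) ⊆ {B | B ∈ L ∧ A ⊓ B ≠ ⊥} := by
        rintro X (rfl | rfl | rfl | rfl)
        · exact ⟨hB, hAB⟩
        · exact ⟨hB₁, hAB₁⟩
        · exact ⟨hB', hAB'⟩
        · exact ⟨hg'L B' hB', incA _ hg'A B' hAB'⟩
      have h5 := Set.ncard_le_ncard hsub
      rw [h.h1.deg A hA] at h5
      have h6 : ({B, B₁, B', cj (y * g) B'} : Set (Subgroup G)).ncard = 4 := by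
        have e1 : cj (y * g) B' ≠ B := fun e => h2 (cj_inj (e.trans hg'B.symm))
        have e2 : cj (y * g) B' ≠ B₁ := fun e => h3 (cj_inj (e.trans hg'B₁.symm))
        rw [Set.ncard_insert_of_notMem, Set.ncard_insert_of_notMem, Set.ncard_pair (Ne.symm h4)]
        · rintro (e | e)
          · exact h3 e.symm
          · exact e2 e.symm
        · rintro (e | e | e)
          · exact hne e.symm
          · exact h2 e.symm
          · exact e1 e.symm
      omega
    have hcent : ∀ x ∈ A, y * g * x = x * (y * g) := by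
      intro x hx
      by_cases hx1 : x = 1
      · rw [hx1]; simp
      obtain ⟨B', hB', hxB'⟩ := h.cover hA hx hx1
      have hAB' := inf_ne_of_mem hx hxB' hx1
      have h2 : Nat.card ↥(A ⊓ B') = 2 := h.h1.inc A hA B' hB' hAB'
      have h3 : (y * g) * x * (y * g)⁻¹ ∈ A ⊓ B' :=
        Subgroup.mem_inf.2 ⟨conj_mem_of_cj hg'A hx, conj_mem_of_cj (hall B' hB' hAB') hxB'⟩
      have h4 : (y * g) * x * (y * g)⁻¹ ≠ 1 := by
        intro e
        exact hx1 (conj_eq_one_iff.1 e)
      have h5 : (y * g) * x * (y * g)⁻¹ = x := by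
        obtain ⟨u, v, huv, huniv⟩ := Nat.card_eq_two_iff.1 h2
        have key : ∀ z : ↥(A ⊓ B'), z = u ∨ z = v := by
          intro z
          have : z ∈ ({u, v} : Set ↥(A ⊓ B')) := by rw [huniv]; trivial
          exact this
        have k1 := key 1
        have k2 := key ⟨x, Subgroup.mem_inf.2 ⟨hx, hxB'⟩⟩
        have k3 := key ⟨_, h3⟩
        have n2 : (⟨x, Subgroup.mem_inf.2 ⟨hx, hxB'⟩⟩ : ↥(A ⊓ B')) ≠ 1 := fun e => hx1 (congrArg Subtype.val e)
        have n3 : (⟨_, h3⟩ : ↥(A ⊓ B')) ≠ 1 := fun e => h4 (congrArg Subtype.val e)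
        have : (⟨_, h3⟩ : ↥(A ⊓ B')) = ⟨x, Subgroup.mem_inf.2 ⟨hx, hxB'⟩⟩ := by
          rcases k1 with k1 | k1
          · rw [k1] at n2 n3
            rw [k2.resolve_left n2, k3.resolve_left n3]
          · rw [k1] at n2 n3
            rw [k2.resolve_right n2, k3.resolve_right n3]
        exact congrArg Subtype.val this
      rw [mul_inv_eq_iff_eq_mul] at h5
      exact h5
    have hNz : Nz (y * g) (N a) := (Nz.of_mem hyN).mul (F.Nz hga)
    obtain ⟨e, he, c, hc, h2⟩ := h.K6 hA hNz hcent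
    rw [F.ct_bot R hk a hc, mul_one] at h2
    have h3 : g = y⁻¹ * e := by rw [← h2]; simp
    rw [h3]
    exact U.mul_mem (U.inv_mem hyU) (by rw [hUeq]; exact mem_sup_left he)
  have hW8 : Nat.card W = 8 := by
    have : W = U := le_antisymm hWU hUW
    rw [this, hU.card]; norm_num
  -- the index of `W` in `G_ab`
  set Gab : Subgroup G := stabilizer G a ⊓ stabilizer G b with hGab
  have hWG : W ≤ Gab := fun x hx => Subgroup.mem_inf.2 ⟨hx.1, hx.2.1⟩
  have hsw : ∀ g ∈ Gab, g ∈ W ∨ (cj g A = B ∧ cj g B = A) := by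
    intro g hg
    obtain ⟨hga, hgb⟩ := Subgroup.mem_inf.1 hg
    have hgU : cj g U = U := by
      refine (hBT a b hab).eq ?_ ?_ hU hUb
      · have := hU.cj g
        rwa [F.conj, show g • a = a from hga] at this
      · have := cj_le_stab (g := g) hUb
        rwa [show g • b = b from hgb] at this
    have h1 : cj g A ≤ A ⊔ B := by rw [← hUeq, ← hgU, hUeq]; exact cj_mono le_sup_left
    have h2 : cj g B ≤ A ⊔ B := by rw [← hUeq, ← hgU, hUeq]; exact cj_mono le_sup_right
    have h3 := h.char_U hA hB hAB (by rw [card_cj, h.h1.card A hA]) (sq_cj (h.h1.sq A hA) g) h1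
    have h4 := h.char_U hA hB hAB (by rw [card_cj, h.h2.card B hB]) (sq_cj (h.h2.sq B hB) g) h2
    have hne : A ≠ B := fun e => h.disj hA (e ▸ hB)
    rcases h3 with h3 | h3
    · rcases h4 with h4 | h4
      · exact absurd (cj_inj (h3.trans h4.symm)) hne
      · left; exact ⟨hga, hgb, h3, h4⟩
    · rcases h4 with h4 | h4
      · right; exact ⟨h3, h4⟩
      · exact absurd (cj_inj (h3.trans h4.symm)) hne
  have hGabc : Nat.card Gab = 8 ∨ Nat.card Gab = 16 := by
    by_cases hall : Gab ≤ W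
    · left; rw [le_antisymm hall hWG, hW8]
    · right
      obtain ⟨g₀, hg₀, hg₀W⟩ := SetLike.not_le_iff_exists.1 hall
      have hsw₀ := (hsw g₀ hg₀).resolve_left hg₀W
      have hidx : (W.subgroupOf Gab).index = 2 := by
        rw [Subgroup.index_eq_two_iff]
        refine ⟨⟨g₀, hg₀⟩, ?_⟩
        rintro ⟨x, hx⟩
        rw [Subgroup.mem_subgroupOf, Subgroup.mem_subgroupOf]
        show Xor (x * g₀ ∈ W) (x ∈ W)
        have hne : A ≠ B := fun e => h.disj hA (e ▸ hB)
        rcases hsw x hx with h1 | h1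
        · right
          refine ⟨h1, fun h2 => hg₀W ?_⟩
          have := W.mul_mem (W.inv_mem h1) h2
          simpa using this
        · left
          refine ⟨?_, ?_⟩
          · have hxg : x * g₀ ∈ Gab := Gab.mul_mem hx hg₀
            refine ⟨(Subgroup.mem_inf.1 hxg).1, (Subgroup.mem_inf.1 hxg).2, ?_, ?_⟩
            · rw [cj_mul, hsw₀.1, h1.2]
            · rw [cj_mul, hsw₀.2, h1.1]
          · intro h2
            exact hne (h2.2.2.1.symm.trans h1.1)
      have h1 := Subgroup.card_mul_index (W.subgroupOf Gab)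
      rw [hidx, Nat.card_congr (subgroupOfEquivOfLe hWG).toEquiv, hW8] at h1
      exact h1.symm
  -- the order of `G`
  have h1 := orb_card (stabilizer G a) b
  have h2 := orb_card (⊤ : Subgroup G) a
  have e1 : {y : Ω | ∃ g ∈ stabilizer G a, g • b = y} = {a}ᶜ := by
    ext y
    constructor
    · rintro ⟨g, hg, rfl⟩ e
      exact hb (smul_left_cancel g (Eq.trans e (show g • a = a from hg).symm))
    · intro hy
      obtain ⟨g, h3, h4⟩ := F.tt a b a y hab (fun e => hy e.symm)
      exact ⟨g, h3, h4⟩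
  have e2 : {y : Ω | ∃ g ∈ (⊤ : Subgroup G), g • a = y} = Set.univ := by
    rw [Set.eq_univ_iff_forall]
    intro y
    by_cases hya : y = a
    · exact ⟨1, trivial, by rw [one_smul, hya]⟩
    · obtain ⟨g, h3, h4⟩ := F.tt a b y a hab hya
      exact ⟨g, trivial, h3⟩
  have e3 : ({a}ᶜ : Set Ω).ncard = 21 := by
    have := Set.ncard_add_ncard_compl ({a} : Set Ω)
    rw [Set.ncard_singleton, h22] at this
    omega
  rw [e1, e3] at h1
  rw [e2, Set.ncard_univ, h22, top_inf_eq, Subgroup.card_top] at h2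
  haveI := Fintype.ofFinite Ω
  haveI : FaithfulSMul G Ω := ⟨fun {x y} hxy => by
    have := F.faith (x⁻¹ * y) fun z => by rw [mul_smul, ← hxy z, inv_smul_smul]
    exact inv_mul_eq_one.1 this⟩
  have hmp : MulAction.IsMultiplyPretransitive G Ω 2 := by
    rw [MulAction.is_two_pretransitive_iff]
    exact fun {a b c d} hab hcd => F.tt a b c d hab hcd
  refine H10.No22.no22 hmp (by rw [← Nat.card_eq_fintype_card, h22]) ?_
  rcases hGabc with h3 | h3
  · left; rw [← h2, ← h1, h3]
  · right; rw [← h2, ← h1, h3]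

end Cfsg.Agent.P3
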